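import Cfsg.Agent.H173.OI.Names
import Cfsg.Agent.H318.TwoComp
import Cfsg.Agent.H291.LieTwo
import Cfsg.Agent.OrdDiv.Table

/-!
# S3325, piece 7c: the rows of characteristic two and the Tits group (task 3241; helper446)

`A = φ.range` has the order of an orthogonal group of dimension at least 8 in odd characteristic; components of
`C_S(α)` are of characteristic two: separation by orders.
-/

set_option autoImplicit false

namespace Cfsg.Agent.H446.OI

open Cfsg Subgroup Cfsg.Agent.OrdDiv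
open Cfsg.Agent.H323.OI Cfsg.Agent.H902 Cfsg.Agent.H902.Names Cfsg.Agent.H173.OI Cfsg.Agent.H318.TwoComp

/-! ### orders -/

theorem three_dvd_of {Y : Art.Sh} {p f M : ℕ} (h : Art.Real Y p f M)
    (h1 : (p ^ f) ^ 2 - 1 ∣ Art.num Y (p ^ f)) (h2 : Nat.Coprime 3 (Art.dd Y (p ^ f))) (hN : Art.NN Y ≠ 0) :
    3 ∣ M := by
  have h3 : 3 ∣ Art.dd Y (p ^ f) * M := by
    rw [h.eq]
    by_cases hp : p = 3
    · apply Dvd.dvd.mul_right
      rw [← pow_mul, hp]
      exact dvd_pow_self 3 (Nat.mul_ne_zero (by have := h.hf; omega) hN)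
    · apply Dvd.dvd.mul_left
      refine dvd_trans ?_ h1
      have h5 : ¬ 3 ∣ p ^ f := fun h6 =>
        hp ((Nat.prime_dvd_prime_iff_eq Nat.prime_three h.hp).1 (Nat.prime_three.dvd_of_dvd_pow h6)).symm
      generalize p ^ f = q at h5
      have h6 : q % 3 = 1 ∨ q % 3 = 2 := by omega
      have h7 : q ^ 2 % 3 = 1 := by
        rcases h6 with h6 | h6 <;> rw [Nat.pow_mod, h6]
      omega
  exact h2.dvd_of_dvd_mul_left h3

theorem cop3 {a x : ℕ} (ha : Nat.Coprime 3 a) : Nat.Coprime 3 (Nat.gcd a x) :=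
  Nat.Coprime.coprime_dvd_right (Nat.gcd_dvd_left _ _) ha

/-- the order of `PΩ(U)` -/
theorem shape_big {F : Type} [Field F] [Fintype F] {n : ℕ} {c : Fin n → F} (s : Sp c) :
    ∃ (Y : Art.Sh) (p f : ℕ), p ≠ 2 ∧ Art.Real Y p f (Nat.card (POmega F (dq c))) ∧ 12 ≤ Art.NN Y ∧
      25920 < Nat.card (POmega F (dq c)) ∧ 3 ∣ Nat.card (POmega F (dq c)) := by
  classical
  have hn := sp_le s
  have hq3 := three_le s.odd
  obtain ⟨p, f, hF, hs⟩ := card_shape (c := c) s.odd (by omega) s.ne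
  rw [hF] at hq3
  have hp2 : p ≠ 2 := by
    rintro rfl
    have h1 := s.odd
    rw [hF] at h1
    have hf : f ≠ 0 := by
      rintro rfl
      simp at hq3
    exact (Nat.not_odd_iff_even.2 ((even_two).pow_of_ne_zero hf)) h1
  rcases hs with ⟨m, hm, h, -⟩ | ⟨m, hm, h, -⟩ | ⟨m, hm, h, -⟩
  · have h4 : 4 ≤ m := by omega
    have hN : 12 ≤ Art.NN (.C m) := by
      change 12 ≤ m ^ 2
      nlinarith
    refine ⟨_, p, f, hp2, h, hN, large h hN hq3, three_dvd_of h ?_ (cop3 (by norm_num)) (by omega)⟩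
    exact Finset.dvd_prod_of_mem (fun i => (p ^ f) ^ (2 * (i + 1)) - 1) (Finset.mem_range.2 (show 0 < m by omega))
  · have hN : 12 ≤ Art.NN (.D m) := by
      change 12 ≤ m * (m - 1)
      have h4 : 4 ≤ m := by omega
      have h3 : 3 ≤ m - 1 := by omega
      calc 12 = 4 * 3 := rfl
        _ ≤ m * (m - 1) := Nat.mul_le_mul h4 h3
    refine ⟨_, p, f, hp2, h, hN, large h hN hq3, three_dvd_of h ?_ (cop3 (by norm_num)) (by omega)⟩
    exact Dvd.dvd.mul_left (Finset.dvd_prod_of_mem (fun i => (p ^ f) ^ (2 * (i + 1)) - 1)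
      (Finset.mem_range.2 (show 0 < m - 1 by omega))) _
  · have hN : 12 ≤ Art.NN (.DD m) := by
      change 12 ≤ m * (m - 1)
      have h4 : 4 ≤ m := by omega
      have h3 : 3 ≤ m - 1 := by omega
      calc 12 = 4 * 3 := rfl
        _ ≤ m * (m - 1) := Nat.mul_le_mul h4 h3
    refine ⟨_, p, f, hp2, h, hN, large h hN hq3, three_dvd_of h ?_ (cop3 (by norm_num)) (by omega)⟩
    exact Dvd.dvd.mul_left (Finset.dvd_prod_of_mem (fun i => (p ^ f) ^ (2 * (i + 1)) - 1)
      (Finset.mem_range.2 (show 0 < m - 1 by omega))) _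

theorem not_chev {A : Type} [Group A] {Y : Art.Sh} {p f : ℕ} (hR : Art.Real Y p f (Nat.card A)) (hp : p ≠ 2)
    (hb : 25920 < Nat.card A) : ¬ IsChevSimple 2 A := by
  rintro (h | ⟨-, ⟨⟨e⟩⟩ | ⟨K, i1, i2, hK, ⟨e⟩⟩ | h⟩ | ⟨h, -⟩)
  · obtain ⟨X, g, hX⟩ := H284.SepOrd.real_of_lie table Nat.prime_two h
    rcases Art.cross_char hR hX hp with h | h | h <;> omega
  · have h1 := alt_card (by norm_num) e
    have h6 : (6 : ℕ).factorial = 720 := by decide
    omega
  · rw [Nat.card_congr e.toEquiv, SmallSimple.PSLFacts.card_psu_three_three hK] at hb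
    omega
  · rw [show Nat.card A = 17971200 from table.spor A (.tits, 17971200) (by decide) h] at hR
    exact H284.SepOrd.chk_real hR (H284.SepOrd.chk_spor (.tits, 17971200) (by decide)) hp (by simp)
  · norm_num at h

/-! ### components -/

/-- **components `A` with `3 ∣ |A|`** -/
theorem comp_two {S : Type} [Group S] [Finite S] [IsSimpleGroup S] (hna : ¬ IsMulCommutative S)
    (h : IsLieTypeChar 2 S) {x : MulAut S} (hx : x * x = 1) (hx1 : x ≠ 1) {A : Subgroup ↥(fixedSubgroup x)}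
    (hA : IsComponent A) (h3 : 3 ∣ Nat.card ↥A) : IsChevSimple 2 ↥A := by
  rcases h with h | h | h | h | h | h | h | h | ⟨-, h⟩ | ⟨-, h⟩ | ⟨h, -⟩
  · obtain ⟨F, _, _, _, n, h1, h2, ⟨e⟩⟩ := h
    obtain ⟨f, -, hf⟩ := H292.Rows.card_two F
    exact of_out ((H292.Rows.row_psl h1 h2).congr e.symm) ⟨f, hf⟩ hx hx1 hA
  · obtain ⟨F, i1, i2, i3, m, h1, h2, ⟨e⟩⟩ := h
    obtain ⟨f, -, hf⟩ := H292.Rows.card_two F
    by_cases hm : m = 2
    · subst hm
      obtain ⟨h', h5, h6, h7⟩ := (H291.LieTwo.row_sp4 (h2 rfl)).congr e.symm x hx hx1 A hA h3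
      refine chev_of_name ?_ h6 h7
      generalize hg : Grp.psp 2 (Fintype.card F) = g at h5
      cases h5 with
      | s q =>
        obtain ⟨-, hq⟩ := Grp.psp.inj hg
        exact sqrt_two (hq.symm.trans hf)
      | a => rfl
    · exact of_out ((H292.Rows.row_psp (by omega)).congr e.symm) ⟨f, hf⟩ hx hx1 hA
  · obtain ⟨F, _, _, _, n, q, h1, h2, h3, ⟨e⟩⟩ := h
    obtain ⟨f, -, hf⟩ := H292.Rows.q_two h1
    exact of_out ((H292.Rows.row_psu h1 h2 h3).congr e.symm) ⟨f, hf⟩ hx hx1 hA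
  · exfalso
    obtain ⟨F, _, _, _, m, h1, h2, ⟨e⟩⟩ := h
    obtain ⟨f, hf, hF⟩ := H292.Rows.card_two F
    rw [hF] at h2
    exact (Nat.not_odd_iff_even.2 ((Nat.even_pow.2 ⟨even_two, by omega⟩))) h2
  · obtain ⟨F, _, _, _, m, h1, ⟨e⟩⟩ := h
    obtain ⟨f, -, hf⟩ := H292.Rows.card_two F
    exact of_out ((H292.Rows.row_plus h1).congr e.symm) ⟨f, hf⟩ hx hx1 hA
  · obtain ⟨F, _, _, _, m, a, b, h1, h2, ⟨e⟩⟩ := h
    obtain ⟨f, -, hf⟩ := H292.Rows.card_two F
    exact of_out ((H292.Rows.row_minus h1 h2).congr e.symm) ⟨f, hf⟩ hx hx1 hA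
  · exact exc hna (Or.inl h) hx hx1 hA
  · exact exc hna (Or.inr (Or.inl h)) hx hx1 hA
  · exact exc hna (Or.inr (Or.inr (Or.inl h))) hx hx1 hA
  · exact exc hna (Or.inr (Or.inr (Or.inr h))) hx hx1 hA
  · exact absurd h (by norm_num)

/-! ### the row -/

/-- **Piece 7c.** -/
theorem pTwo : PTwo := by
  intro F _ _ n c s S _ _ _ r h
  classical
  obtain ⟨Y, p, f, hp2, hY, hN, hb, h3⟩ := shape_big s
  have hpo : Nat.card (POmega F (dq c)) = (center (Om c)).index := rfl
  have hrk : r.φ.ker.index = Nat.card ↥r.φ.range := index_ker r.φ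
  rcases h with h | h
  · have hA : IsComponent (r.φ.range.subgroupOf (fixedSubgroup r.α)) := r.comp
    have hna := H292.Rows.hna_of_comp hA
    obtain ⟨hs, -, -⟩ := H291.LieTwo.simple_comp hna h r.aa hA
    have hle : r.φ.range ≤ fixedSubgroup r.α := by
      rintro _ ⟨m, rfl⟩
      exact r.fix m
    have e := subgroupOfEquivOfLe hle
    have hz : center ↥(r.φ.range.subgroupOf (fixedSubgroup r.α)) = ⊥ := CpAut.center_eq_bot_of_simple
      (SignalizersComponents.Components.quasisimple_not_isMulCommutative hA.2)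
    have hk : r.φ.ker = center (Om c) := by
      refine le_antisymm r.ker fun x hx => ?_
      have h1 : (⟨⟨r.φ x, hle ⟨x, rfl⟩⟩, mem_subgroupOf.2 ⟨x, rfl⟩⟩ :
          ↥(r.φ.range.subgroupOf (fixedSubgroup r.α))) ∈ center ↥(r.φ.range.subgroupOf (fixedSubgroup r.α)) := by
        rw [mem_center_iff]
        rintro ⟨⟨y, hy⟩, hy'⟩
        obtain ⟨m, hm⟩ := mem_subgroupOf.1 hy'
        have hm' : r.φ m = y := hm
        subst hm'
        apply Subtype.ext
        apply Subtype.ext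
        show r.φ m * r.φ x = r.φ x * r.φ m
        rw [← map_mul, ← map_mul, mem_center_iff.1 hx m]
      rw [hz, mem_bot] at h1
      exact congrArg (fun t : ↥(r.φ.range.subgroupOf (fixedSubgroup r.α)) => ((t : ↥(fixedSubgroup r.α)) : S)) h1
    have hcard : Nat.card ↥(r.φ.range.subgroupOf (fixedSubgroup r.α)) = Nat.card (POmega F (dq c)) := by
      rw [Nat.card_congr e.toEquiv, ← hrk, hk, hpo]
    rw [← hcard] at hY hb h3
    exact not_chev hY hp2 hb (comp_two hna h r.aa r.a1 hA h3)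
  · have hS : Nat.card S = 17971200 := table.spor S (.tits, 17971200) (by decide) h
    have h1 : Nat.card (POmega F (dq c)) ∣ 17971200 := by
      rw [hpo]
      refine (index_dvd_of_le r.ker).trans ?_
      rw [hrk, ← hS]
      exact card_subgroup_dvd_card _
    have h2 := H284.SepOrd.chk_spec (l := []) (N := 17971200) (by norm_num)
      (H284.SepOrd.chk_spor (.tits, 17971200) (by decide)) hY.hp hp2 (by simp)
    have h4 : (p ^ f) ^ Art.NN Y ≤ Art.P p 17971200 := by
      rw [← hY.P_self, Art.P, Art.P]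
      refine Nat.pow_le_pow_right hY.hp.pos ?_
      exact (Nat.factorization_le_iff_dvd hY.M_ne (by norm_num)).2 h1 p
    have h5 : 3 ^ 12 ≤ (p ^ f) ^ Art.NN Y := by
      have h6 : 3 ≤ p := by
        have := hY.hp.two_le
        omega
      have h7 : 3 ≤ p ^ f := h6.trans (Nat.le_self_pow (by have := hY.hf; omega) p)
      exact (Nat.pow_le_pow_left h7 12).trans (Nat.pow_le_pow_right (by omega) hN)
    have h6 : (3 ^ 12) ^ 3 ≤ (Art.P p 17971200) ^ 3 := Nat.pow_le_pow_left (h5.trans h4) 3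
    have h7 := h6.trans h2
    norm_num at h7

end Cfsg.Agent.H446.OI
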